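import Groth.Agent.DualExtLib.Reg
import Groth.Agent.DepthLib.AB
import Groth.Agent.CommAlgDim.CM

/-! Vanishing of `Ext` below the grade, and the grade over a regular local ring. -/

universe u

open CategoryTheory Abelian Pointwise RingTheory.Sequence IsLocalRing

namespace DualExtLib

variable {A : Type u} [CommRing A]

lemma smul_eq_zero_of_killed_src {M N : ModuleCat.{u} A} (r : A) (h : ∀ m : M, r • m = 0) {i : ℕ}
    (y : Ext M N i) : r • y = 0 := by
  have h0 : r • 𝟙 M = 0 := by
    ext m
    exact h m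
  calc r • y = r • (Ext.mk₀ (𝟙 M)).comp y (zero_add i) := by rw [Ext.mk₀_id_comp]
    _ = (r • Ext.mk₀ (𝟙 M)).comp y (zero_add i) := (Ext.smul_comp _ _ _ _).symm
    _ = 0 := by rw [← Ext.mk₀_smul, h0, Ext.mk₀_zero, Ext.zero_comp]

theorem ext_eq_zero_of_isWeaklyRegular (M : ModuleCat.{u} A) : ∀ (rs : List A) (N : ModuleCat.{u} A),
    IsWeaklyRegular N rs → (∀ r ∈ rs, ∀ m : M, r • m = 0) → ∀ i < rs.length, ∀ y : Ext M N i, y = 0
  | [], _, _, _, i, hi, _ => absurd hi (by simp)
  | x :: rs, N, hreg, hk, i, hi, y => by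
    obtain ⟨hx, hrs⟩ := (isWeaklyRegular_cons_iff _ _ _).1 hreg
    let S : ShortComplex (ModuleCat.{u} A) := ShortComplex.moduleCatMk (x • LinearMap.id : N →ₗ[A] N)
      (Submodule.mkQ (x • (⊤ : Submodule A N))) (by
        refine LinearMap.ext fun m => ?_
        exact (Submodule.Quotient.mk_eq_zero _).2 (Submodule.smul_mem_pointwise_smul m x ⊤ trivial))
    have hS : S.ShortExact :=
      { exact := by
          rw [ShortComplex.moduleCat_exact_iff]
          intro m hm
          obtain ⟨c, -, hc⟩ := (Submodule.mem_smul_pointwise_iff_exists _ _ _).1 ((Submodule.Quotient.mk_eq_zero _).1 hm)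
          exact ⟨c, hc⟩
        mono_f := (ModuleCat.mono_iff_injective _).2 hx
        epi_g := (ModuleCat.epi_iff_surjective _).2 (Submodule.mkQ_surjective _) }
    have hxM : ∀ m : M, x • m = 0 := hk x (by simp)
    cases i with
    | zero =>
      obtain ⟨f, rfl⟩ := (Ext.mk₀_bijective M N).2 y
      have : f = 0 := by
        ext m
        refine hx ?_
        show x • f.hom m = x • (0 : N)
        rw [← map_smul, hxM, map_zero, smul_zero]
      rw [this, Ext.mk₀_zero]
    | succ i =>
      have h0 : y.comp (Ext.mk₀ S.f) (add_zero (i + 1)) = 0 := by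
        have hf : S.f = x • 𝟙 N := rfl
        rw [hf]
        exact (Ext.smul_eq_comp_mk₀ y x).symm.trans (smul_eq_zero_of_killed_src x hxM y)
      obtain ⟨w, hw⟩ := Ext.covariant_sequence_exact₁ M hS y h0 (n₀ := i) rfl
      have hw0 : w = 0 := ext_eq_zero_of_isWeaklyRegular M rs (ModuleCat.of A (QuotSMulTop x N)) hrs
        (fun r hr => hk r (List.mem_cons_of_mem _ hr)) i (Nat.lt_of_succ_lt_succ hi) w
      rw [← hw, hw0]
      exact (hS.extClass.postcomp M (show i + 1 = i + 1 from rfl)).map_zero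

/-- A regular local ring has grade at least `p` on every ideal of coheight at most `dim - p`. -/
theorem exists_isWeaklyRegular_of_ringKrullDim_add_le [IsRegularLocalRing A] (I : Ideal A) (hI : I ≠ ⊤) (p : ℕ)
    (hdim : ringKrullDim (A ⧸ I) + p ≤ ringKrullDim A) :
    ∃ xs : List A, xs.length = p ∧ (∀ x ∈ xs, x ∈ I) ∧ IsWeaklyRegular A xs := by
  obtain ⟨d, hd⟩ : ∃ d : ℕ, ringKrullDim A = d := by
    have h := (isRegularLocalRing_iff A).1 inferInstance
    exact ⟨_, h.symm⟩
  suffices ∀ k ≤ p, ∃ xs : List A, xs.length = k ∧ (∀ x ∈ xs, x ∈ I) ∧ IsWeaklyRegular A xs from this p le_rfl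
  intro k
  induction k with
  | zero => exact fun _ => ⟨[], rfl, by simp, IsWeaklyRegular.nil A A⟩
  | succ k ih =>
    intro hk
    obtain ⟨xs, hl, hm, hreg⟩ := ih (by omega)
    let M := A ⧸ (Ideal.ofList xs • ⊤ : Submodule A A)
    have hIJ : Ideal.ofList xs ≤ maximalIdeal A :=
      Ideal.span_le.2 fun x hx => IsLocalRing.le_maximalIdeal hI (hm x hx)
    have hkd : k < d := by
      have h0 : (0 : WithBot ℕ∞) ≤ ringKrullDim (A ⧸ I) :=
        haveI := Ideal.Quotient.nontrivial_iff.2 hI
        ringKrullDim_nonneg_of_nontrivial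
      have h1 : (p : WithBot ℕ∞) ≤ ringKrullDim A :=
        le_trans (le_add_of_nonneg_left h0) hdim
      rw [hd] at h1
      have : p ≤ d := by exact_mod_cast h1
      omega
    have hpd : CommAlgDim.PDLT A M (k + 1) := by
      refine CommAlgDim.PDLT.of_equiv (M := A ⧸ Ideal.ofList xs) (Submodule.quotEquivOfEq _ _ (by simp)) ?_
      refine (hasProjectiveDimensionLT_iff _ _).2 fun i hi Y e => ?_
      exact (topExt_of_isWeaklyRegular xs hreg Y).1 i (by omega) e
    obtain ⟨rs, hrl, hrm, hrr⟩ := (CommAlgDim.le_depth_iff (d - k)).1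
      ((DepthLib.le_depth_iff_pdlt A M hd (by omega)).2 (by rwa [show d + 1 - (d - k) = k + 1 by omega]))
    obtain ⟨x, hxI, hx⟩ := CommAlgDim.exists_isSMulRegular_mem (M := M) (I := I) (fun P hP hIP => by
      have hne : Nontrivial M := by
        rw [Submodule.Quotient.nontrivial_iff, smul_eq_mul, Ideal.mul_top]
        exact ne_top_of_le_ne_top (maximalIdeal.isMaximal A).ne_top hIJ
      have hreg' : IsRegular M rs := ⟨hrr, fun h0 => by
        have := Submodule.eq_bot_of_le_smul_of_le_jacobson_bot (Ideal.ofList rs) (⊤ : Submodule A M)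
          Module.Finite.fg_top h0.le
          ((Ideal.span_le.2 hrm).trans (jacobson_eq_maximalIdeal (⊥ : Ideal A) bot_ne_top).ge)
        exact top_ne_bot this⟩
      have h1 := CommAlgDim.length_le_ringKrullDim_of_mem_associatedPrimes rs M hreg' P hP
      have h2 : ringKrullDim (A ⧸ P) ≤ ringKrullDim (A ⧸ I) :=
        ringKrullDim_le_of_surjective (Ideal.Quotient.factor hIP) (Ideal.Quotient.factor_surjective hIP)
      have h3 : ((d - k + p : ℕ) : WithBot ℕ∞) ≤ (d : WithBot ℕ∞) := by
        rw [← hd, Nat.cast_add, ← hrl]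
        exact le_trans (add_le_add (h1.trans h2) le_rfl) hdim
      have : d - k + p ≤ d := by exact_mod_cast h3
      omega)
    refine ⟨xs ++ [x], by simp [hl], ?_, (isWeaklyRegular_append_iff _ _ _).2
      ⟨hreg, (isWeaklyRegular_singleton_iff _ _).2 hx⟩⟩
    intro y hy
    rcases List.mem_append.1 hy with hy | hy
    · exact hm y hy
    · simp at hy; exact hy ▸ hxI

theorem ext_vanishing [IsRegularLocalRing A] (M : Type u) [AddCommGroup M] [Module A M] [Module.Finite A M]
    (p : ℕ) (hdim : Module.supportDim A M + p ≤ ringKrullDim A) (i : ℕ) (hi : i < p)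
    (y : Ext (ModuleCat.of A M) (ModuleCat.of A A) i) : y = 0 := by
  by_cases hI : Module.annihilator A M = ⊤
  · have h1 : (1 : A) • y = 0 := smul_eq_zero_of_killed_src (1 : A) (fun m => by
      exact Module.mem_annihilator.1 (hI ▸ Submodule.mem_top) m) y
    rwa [one_smul] at h1
  · rw [Module.supportDim_eq_ringKrullDim_quotient_annihilator] at hdim
    obtain ⟨xs, hl, hm, hreg⟩ := exists_isWeaklyRegular_of_ringKrullDim_add_le _ hI p hdim
    exact ext_eq_zero_of_isWeaklyRegular _ xs (ModuleCat.of A A) hreg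
      (fun r hr m => Module.mem_annihilator.1 (hm r hr) m) i (hl ▸ hi) y

end DualExtLib
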