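import Groth.Agent.DualExtLib.Grade

/-! `Ext^p(M, A) = Hom(M, Ext^p(A/J, A))` for `M` killed by `J`. -/

universe u

open CategoryTheory Abelian Pointwise RingTheory.Sequence IsLocalRing

namespace DualExtLib

variable {A : Type u} [CommRing A] [IsRegularLocalRing A] {p : ℕ} {J : Ideal A}

theorem ext_vanishing_killed (hJ : ringKrullDim (A ⧸ J) + p ≤ ringKrullDim A) (Z : Type u) [AddCommGroup Z]
    [Module A Z] [Module.Finite A Z] (hZ : ∀ a ∈ J, ∀ z : Z, a • z = 0) (i : ℕ) (hi : i < p)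
    (y : Ext (ModuleCat.of A Z) (ModuleCat.of A A) i) : y = 0 := by
  refine ext_vanishing Z p (le_trans (add_le_add ?_ le_rfl) hJ) i hi y
  rw [Module.supportDim_eq_ringKrullDim_quotient_annihilator]
  have hle : J ≤ Module.annihilator A Z := fun a ha => Module.mem_annihilator.2 (hZ a ha)
  exact ringKrullDim_le_of_surjective (Ideal.Quotient.factor hle) (Ideal.Quotient.factor_surjective hle)

/-- A linear map out of `A/J` is given by the image of `1`. -/
theorem hom_eq_of_one {Z : Type u} [AddCommGroup Z] [Module A Z] {u v : (A ⧸ J) →ₗ[A] Z}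
    (h : u (Submodule.Quotient.mk 1) = v (Submodule.Quotient.mk 1)) : u = v :=
  Submodule.linearMap_qext _ (LinearMap.ext_ring h)

/-- pullback along `u : A/J → M` is linear in `u` -/
theorem pullback_injective (hJ : ringKrullDim (A ⧸ J) + p ≤ ringKrullDim A) (M : Type u) [AddCommGroup M]
    [Module A M] [Module.Finite A M] (hM : ∀ a ∈ J, ∀ m : M, a • m = 0)
    (ξ : Ext (ModuleCat.of A M) (ModuleCat.of A A) p)
    (h : ∀ u : (A ⧸ J) →ₗ[A] M, (Ext.mk₀ (ModuleCat.ofHom u)).comp ξ (zero_add p) = 0) : ξ = 0 := by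
  classical
  obtain ⟨b, gen, hgen⟩ := Module.Finite.exists_fin (R := A) (M := M)
  let uk : Fin b → ((A ⧸ J) →ₗ[A] M) := fun k =>
    Submodule.liftQ J (LinearMap.toSpanSingleton A M (gen k)) fun a ha => hM a ha _
  let π : (Fin b → A ⧸ J) →ₗ[A] M := ∑ k, uk k ∘ₗ LinearMap.proj k
  have hπk : ∀ k, π ∘ₗ LinearMap.single A (fun _ : Fin b => A ⧸ J) k = uk k := by
    intro k
    ext
    simp [π, Pi.single_apply, apply_ite]
  have hπ : Function.Surjective π := by
    intro m
    obtain ⟨c, rfl⟩ := (Submodule.mem_span_range_iff_exists_fun A).1 (hgen ▸ (Submodule.mem_top : m ∈ ⊤))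
    refine ⟨fun k => Submodule.Quotient.mk (c k), ?_⟩
    simp only [π, LinearMap.sum_apply]
    exact Finset.sum_congr rfl fun k _ => rfl
  let S : ShortComplex (ModuleCat.{u} A) := ShortComplex.moduleCatMk (LinearMap.ker π).subtype π
    (LinearMap.comp_ker_subtype π)
  have hS : S.ShortExact :=
    { exact := (ShortComplex.moduleCat_exact_iff_range_eq_ker S).2 (Submodule.range_subtype _)
      mono_f := (ModuleCat.mono_iff_injective _).2 Subtype.val_injective
      epi_g := (ModuleCat.epi_iff_surjective _).2 hπ }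
  have hπξ : (Ext.mk₀ (ModuleCat.ofHom π)).comp ξ (zero_add p) = 0 := by
    have hdec : ModuleCat.ofHom π = ∑ k, ModuleCat.ofHom (LinearMap.proj k : (Fin b → A ⧸ J) →ₗ[A] A ⧸ J) ≫ ModuleCat.ofHom (uk k) := by
      apply ModuleCat.hom_ext
      rw [ModuleCat.hom_sum]
      rfl
    let L := ((Ext.bilinearCompOfLinear A (ModuleCat.of A (Fin b → A ⧸ J)) (ModuleCat.of A M) (ModuleCat.of A A)
      0 p p (zero_add p)).flip ξ) ∘ₗ (Ext.linearEquiv₀ (R := A)).symm.toLinearMap
    show L (ModuleCat.ofHom π) = 0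
    rw [hdec, map_sum]
    refine Finset.sum_eq_zero fun k _ => ?_
    show (Ext.mk₀ (ModuleCat.ofHom (LinearMap.proj k : (Fin b → A ⧸ J) →ₗ[A] A ⧸ J) ≫ ModuleCat.ofHom (uk k))).comp ξ (zero_add p) = 0
    rw [← Ext.mk₀_comp_mk₀_assoc, h]
    exact Ext.comp_zero _ _ _ _ _
  cases p with
  | zero =>
    obtain ⟨f, rfl⟩ := (Ext.mk₀_bijective _ _).2 ξ
    rw [Ext.mk₀_comp_mk₀, Ext.mk₀_eq_zero_iff] at hπξ
    have : Epi (ModuleCat.ofHom π) := hS.epi_g
    have hf : f = 0 := (cancel_epi (ModuleCat.ofHom π)).1 (by rw [hπξ, Limits.comp_zero])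
    rw [hf, Ext.mk₀_zero]
  | succ q =>
    obtain ⟨w, hw⟩ := Ext.contravariant_sequence_exact₃ hS (ModuleCat.of A A) ξ hπξ (n₀ := q) (by omega)
    have hw0 : w = 0 := ext_vanishing_killed hJ (LinearMap.ker π) (fun a ha z => Subtype.ext (funext fun k => by
      obtain ⟨c, hc⟩ := Submodule.Quotient.mk_surjective J (z.1 k)
      show a • z.1 k = 0
      rw [← hc, ← Submodule.Quotient.mk_smul, Submodule.Quotient.mk_eq_zero, smul_eq_mul]
      exact Ideal.mul_mem_right _ _ ha)) q (by omega) w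
    rw [← hw, hw0]
    exact (hS.extClass.precomp (ModuleCat.of A A) (show 1 + q = q + 1 by omega)).map_zero

theorem pullback_surjective (hJ : ringKrullDim (A ⧸ J) + p ≤ ringKrullDim A) (M : Type u) [AddCommGroup M]
    [Module A M] [Module.Finite A M] (hM : ∀ a ∈ J, ∀ m : M, a • m = 0)
    (g : ((A ⧸ J) →ₗ[A] M) →ₗ[A] Ext (ModuleCat.of A (A ⧸ J)) (ModuleCat.of A A) p) :
    ∃ ξ : Ext (ModuleCat.of A M) (ModuleCat.of A A) p, ∀ u : (A ⧸ J) →ₗ[A] M,
      g u = (Ext.mk₀ (ModuleCat.ofHom u)).comp ξ (zero_add p) := by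
  classical
  obtain ⟨b, gen, hgen⟩ := Module.Finite.exists_fin (R := A) (M := M)
  let uk : Fin b → ((A ⧸ J) →ₗ[A] M) := fun k =>
    Submodule.liftQ J (LinearMap.toSpanSingleton A M (gen k)) fun a ha => hM a ha _
  let π : (Fin b → A ⧸ J) →ₗ[A] M := ∑ k, uk k ∘ₗ LinearMap.proj k
  have hπ : Function.Surjective π := by
    intro m
    obtain ⟨c, rfl⟩ := (Submodule.mem_span_range_iff_exists_fun A).1 (hgen ▸ (Submodule.mem_top : m ∈ ⊤))
    refine ⟨fun k => Submodule.Quotient.mk (c k), ?_⟩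
    simp only [π, LinearMap.sum_apply]
    exact Finset.sum_congr rfl fun k _ => rfl
  let S : ShortComplex (ModuleCat.{u} A) := ShortComplex.moduleCatMk (LinearMap.ker π).subtype π
    (LinearMap.comp_ker_subtype π)
  have hS : S.ShortExact :=
    { exact := (ShortComplex.moduleCat_exact_iff_range_eq_ker S).2 (Submodule.range_subtype _)
      mono_f := (ModuleCat.mono_iff_injective _).2 Subtype.val_injective
      epi_g := (ModuleCat.epi_iff_surjective _).2 hπ }
  let η : Ext (ModuleCat.of A (Fin b → A ⧸ J)) (ModuleCat.of A A) p :=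
    ∑ k, (Ext.mk₀ (ModuleCat.ofHom (LinearMap.proj k : (Fin b → A ⧸ J) →ₗ[A] A ⧸ J))).comp (g (uk k)) (zero_add p)
  have key : ∀ u : (A ⧸ J) →ₗ[A] (Fin b → A ⧸ J),
      (Ext.mk₀ (ModuleCat.ofHom u)).comp η (zero_add p) = g (π ∘ₗ u) := by
    intro u
    choose a ha using fun k => Submodule.Quotient.mk_surjective J (u (Submodule.Quotient.mk 1) k)
    have hpu : π ∘ₗ u = ∑ k, a k • uk k := hom_eq_of_one (by
      rw [LinearMap.comp_apply]
      simp only [π, LinearMap.sum_apply, LinearMap.comp_apply, LinearMap.proj_apply, LinearMap.smul_apply]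
      refine Finset.sum_congr rfl fun k _ => ?_
      rw [← ha k]
      show (a k) • gen k = a k • ((1 : A) • gen k)
      rw [one_smul])
    rw [hpu, map_sum, show η = ∑ k, _ from rfl, Ext.comp_sum]
    refine Finset.sum_congr rfl fun k _ => ?_
    have hk : ModuleCat.ofHom u ≫ ModuleCat.ofHom (LinearMap.proj k : (Fin b → A ⧸ J) →ₗ[A] A ⧸ J)
        = a k • 𝟙 (ModuleCat.of A (A ⧸ J)) := by
      refine ModuleCat.hom_ext (hom_eq_of_one ?_)
      show u (Submodule.Quotient.mk 1) k = a k • (Submodule.Quotient.mk 1 : A ⧸ J)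
      rw [← ha, ← Submodule.Quotient.mk_smul, smul_eq_mul, mul_one]
    rw [Ext.mk₀_comp_mk₀_assoc, hk, Ext.mk₀_smul, Ext.smul_comp, Ext.mk₀_id_comp, map_smul]
  have hker : (Ext.mk₀ S.f).comp η (zero_add p) = 0 := by
    refine pullback_injective hJ (LinearMap.ker π) (fun a ha z => Subtype.ext (funext fun k => by
      obtain ⟨c, hc⟩ := Submodule.Quotient.mk_surjective J (z.1 k)
      show a • z.1 k = 0
      rw [← hc, ← Submodule.Quotient.mk_smul, Submodule.Quotient.mk_eq_zero, smul_eq_mul]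
      exact Ideal.mul_mem_right _ _ ha)) _ fun v => ?_
    refine (Ext.mk₀_comp_mk₀_assoc _ _ _).trans ?_
    refine (key ((LinearMap.ker π).subtype ∘ₗ v)).trans ?_
    rw [← LinearMap.comp_assoc, LinearMap.comp_ker_subtype, LinearMap.zero_comp, map_zero]
  obtain ⟨ξ, hξ⟩ := Ext.contravariant_sequence_exact₂ hS (ModuleCat.of A A) η hker
  refine ⟨ξ, fun u => ?_⟩
  obtain ⟨f, hf⟩ := hπ (u (Submodule.Quotient.mk 1))
  let u' : (A ⧸ J) →ₗ[A] (Fin b → A ⧸ J) :=
    Submodule.liftQ J (LinearMap.toSpanSingleton A _ f) fun a ha => funext fun k => by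
      obtain ⟨c, hc⟩ := Submodule.Quotient.mk_surjective J (f k)
      show a • f k = 0
      rw [← hc, ← Submodule.Quotient.mk_smul, Submodule.Quotient.mk_eq_zero, smul_eq_mul]
      exact Ideal.mul_mem_right _ _ ha
  have hu : π ∘ₗ u' = u := hom_eq_of_one (by
    show π ((1 : A) • f) = _
    rw [one_smul, hf])
  rw [← hu, ← key u', ← hξ]
  exact Ext.mk₀_comp_mk₀_assoc _ _ _

end DualExtLib
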