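import Mathlib

/-! Ext out of the quotient of a ring by a weakly regular sequence. -/

universe u

open CategoryTheory Abelian

namespace DualExtLib

variable {A : Type u} [CommRing A]

/-- `A / J` as an object. -/
abbrev Q (J : Ideal A) : ModuleCat.{u} A := ModuleCat.of A (A ⧸ J)

/-- The projection `A / J ⟶ A / J'`. -/
noncomputable def proj {J J' : Ideal A} (h : J ≤ J') : Q J ⟶ Q J' :=
  ModuleCat.ofHom (Submodule.factor h)

/-- `m ↦ (a ↦ a • m)` for `M` killed by `J`. -/
noncomputable def ev (J : Ideal A) (M : ModuleCat.{u} A) (h : ∀ j ∈ J, ∀ m : M, j • m = 0) :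
    M →ₗ[A] (Q J ⟶ M) where
  toFun m := ModuleCat.ofHom (Submodule.liftQ J (LinearMap.toSpanSingleton A M m) fun j hj => h j hj m)
  map_add' m₁ m₂ := by
    refine ModuleCat.hom_ext (LinearMap.ext fun q => ?_)
    obtain ⟨a, rfl⟩ := Submodule.Quotient.mk_surjective J q
    exact smul_add a m₁ m₂
  map_smul' r m := by
    refine ModuleCat.hom_ext (LinearMap.ext fun q => ?_)
    obtain ⟨a, rfl⟩ := Submodule.Quotient.mk_surjective J q
    exact smul_comm a r m

lemma ev_apply (J : Ideal A) (M : ModuleCat.{u} A) (h : ∀ j ∈ J, ∀ m : M, j • m = 0) (m : M) (a : A) :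
    (ev J M h m).hom (Submodule.Quotient.mk a) = a • m := rfl

lemma ev_bijective (J : Ideal A) (M : ModuleCat.{u} A) (h : ∀ j ∈ J, ∀ m : M, j • m = 0) :
    Function.Bijective (ev J M h) := by
  constructor
  · intro m₁ m₂ e
    have := congrArg (fun f => f.hom (Submodule.Quotient.mk (1 : A))) e
    exact (one_smul A m₁).symm.trans (this.trans (one_smul A m₂))
  · intro f
    refine ⟨f.hom (Submodule.Quotient.mk 1), ?_⟩
    refine ModuleCat.hom_ext (LinearMap.ext fun q => ?_)
    obtain ⟨a, rfl⟩ := Submodule.Quotient.mk_surjective J q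
    rw [ev_apply, ← map_smul, ← Submodule.Quotient.mk_smul, smul_eq_mul, mul_one]

lemma proj_comp_ev {J J' : Ideal A} (hJ : J ≤ J') (M : ModuleCat.{u} A)
    (h : ∀ j ∈ J', ∀ m : M, j • m = 0) (m : M) :
    proj hJ ≫ ev J' M h m = ev J M (fun j hj => h j (hJ hj)) m := by
  refine ModuleCat.hom_ext (LinearMap.ext fun q => ?_)
  obtain ⟨a, rfl⟩ := Submodule.Quotient.mk_surjective J q
  rfl

section Step

variable (J : Ideal A) (x : A)

/-- `0 → A/J → A/J → A/(J + (x)) → 0`. -/
noncomputable def S : ShortComplex (ModuleCat.{u} A) :=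
  ShortComplex.moduleCatMk (x • LinearMap.id : (A ⧸ J) →ₗ[A] (A ⧸ J))
    (Submodule.factor (le_sup_left : J ≤ J ⊔ Ideal.span {x})) (by
      refine LinearMap.ext fun q => ?_
      obtain ⟨a, rfl⟩ := Submodule.Quotient.mk_surjective J q
      show (Submodule.Quotient.mk (x • a) : A ⧸ (J ⊔ Ideal.span {x})) = 0
      rw [Submodule.Quotient.mk_eq_zero, smul_eq_mul]
      exact Ideal.mul_mem_right _ _ (Ideal.mem_sup_right (Ideal.mem_span_singleton_self x)))

lemma S_shortExact (hx : IsSMulRegular (A ⧸ J) x) : (S J x).ShortExact where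
  exact := by
    rw [ShortComplex.moduleCat_exact_iff]
    intro q hq
    obtain ⟨a, rfl⟩ := Submodule.Quotient.mk_surjective J q
    have ha : a ∈ J ⊔ Ideal.span {x} := (Submodule.Quotient.mk_eq_zero _).1 hq
    obtain ⟨j, hj, y, hy, rfl⟩ := Submodule.mem_sup.1 ha
    obtain ⟨c, rfl⟩ := Ideal.mem_span_singleton'.1 hy
    refine ⟨Submodule.Quotient.mk c, ?_⟩
    show x • (Submodule.Quotient.mk c : A ⧸ J) = Submodule.Quotient.mk (j + c * x)
    rw [← Submodule.Quotient.mk_smul, Submodule.Quotient.eq]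
    have h2 : x • c - (j + c * x) = -j := by rw [smul_eq_mul]; ring
    rw [h2]; exact J.neg_mem hj
  mono_f := (ModuleCat.mono_iff_injective _).2 hx
  epi_g := (ModuleCat.epi_iff_surjective _).2 (Submodule.factor_surjective le_sup_left)

lemma S_f : (S J x).f = x • 𝟙 (Q J) := rfl

lemma S_g : (S J x).g = proj (le_sup_left : J ≤ J ⊔ Ideal.span {x}) := rfl

lemma f_comp {M : ModuleCat.{u} A} {i : ℕ} (y : Ext (Q J) M i) :
    (Ext.mk₀ (S J x).f).comp y (zero_add i) = x • y := by
  show (Ext.mk₀ (x • 𝟙 (Q J))).comp y (zero_add i) = x • y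
  exact ((congrArg (fun z : Ext (Q J) (Q J) 0 => z.comp y (zero_add i)) (Ext.mk₀_smul x (𝟙 (Q J)))).trans
    (Ext.smul_comp _ _ _ _)).trans (congrArg (x • ·) (Ext.mk₀_id_comp y))

lemma smul_eq_zero_of_killed {N M : ModuleCat.{u} A} (r : A) (h : ∀ m : M, r • m = 0) {i : ℕ}
    (y : Ext N M i) : r • y = 0 := by
  have h0 : r • 𝟙 M = 0 := by
    ext m
    exact h m
  rw [Ext.smul_eq_comp_mk₀, h0, Ext.mk₀_zero, Ext.comp_zero]

/-- the connecting map, linearly -/
noncomputable def del (hx : IsSMulRegular (A ⧸ J) x) (M : ModuleCat.{u} A) (i : ℕ) :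
    Ext (Q J) M i →ₗ[A] Ext (Q (J ⊔ Ideal.span {x})) M (i + 1) :=
  Ext.precompOfLinear (S_shortExact J x hx).extClass A M (by omega)

lemma del_comp (hx : IsSMulRegular (A ⧸ J) x) {Y M : ModuleCat.{u} A} {i : ℕ} (a : Ext (Q J) Y i)
    (f : Y ⟶ M) :
    (del J x hx Y i a).comp (Ext.mk₀ f) (add_zero _) = del J x hx M i (a.comp (Ext.mk₀ f) (add_zero i)) :=
  Ext.comp_assoc_of_third_deg_zero (S_shortExact J x hx).extClass a (Ext.mk₀ f) (show 1 + i = i + 1 by omega)

end Step

/-! ### The module killed by the ideal -/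

/-- The comparison map given by a family of classes in `Ext^i(A/J, A/J)`. -/
noncomputable def theta (J : Ideal A) {ι : Type} [Fintype ι] {i : ℕ} (e : ι → Ext (Q J) (Q J) i)
    (M : ModuleCat.{u} A) (h : ∀ j ∈ J, ∀ m : M, j • m = 0) : (ι → M) →ₗ[A] Ext (Q J) M i :=
  ∑ k, (Ext.precompOfLinear (e k) A M (add_zero i)) ∘ₗ
    ((Ext.linearEquiv₀ (R := A)).symm.toLinearMap ∘ₗ (ev J M h) ∘ₗ LinearMap.proj k)

lemma theta_apply (J : Ideal A) {ι : Type} [Fintype ι] {i : ℕ} (e : ι → Ext (Q J) (Q J) i)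
    (M : ModuleCat.{u} A) (h : ∀ j ∈ J, ∀ m : M, j • m = 0) (v : ι → M) :
    theta J e M h v = ∑ k, (e k).comp (Ext.mk₀ (ev J M h (v k))) (add_zero i) := by
  rw [theta, LinearMap.sum_apply]
  refine Finset.sum_congr rfl fun k _ => ?_
  rfl

/-- Freeness of `Ext^i(A/J, -)` on modules killed by `J`. -/
def FreeExt (J : Ideal A) (n : ℕ) : Prop :=
  ∀ i : ℕ, ∃ (ι : Type) (_ : Fintype ι) (e : ι → Ext (Q J) (Q J) i), Fintype.card ι = n.choose i ∧
    ∀ (M : ModuleCat.{u} A) (h : ∀ j ∈ J, ∀ m : M, j • m = 0), Function.Bijective (theta J e M h)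

lemma freeExt_zero (J : Ideal A) (n : ℕ) :
    ∃ (ι : Type) (_ : Fintype ι) (e : ι → Ext (Q J) (Q J) 0), Fintype.card ι = n.choose 0 ∧
      ∀ (M : ModuleCat.{u} A) (h : ∀ j ∈ J, ∀ m : M, j • m = 0), Function.Bijective (theta J e M h) := by
  refine ⟨Unit, inferInstance, fun _ => Ext.mk₀ (𝟙 _), by simp, fun M h => ?_⟩
  have h1 : ∀ v : Unit → M, theta J (fun _ : Unit => Ext.mk₀ (𝟙 (Q J))) M h v
      = Ext.mk₀ (ev J M h (v ())) := by
    intro v
    rw [theta_apply, Fintype.sum_unique, Ext.mk₀_id_comp]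
  have h2 := (Ext.mk₀_bijective (Q J) M).comp ((ev_bijective J M h).comp
    (Equiv.funUnique Unit M).bijective)
  convert h2 using 1
  funext v; exact h1 v

lemma freeExt_bot : FreeExt (⊥ : Ideal A) 0 := by
  intro i
  cases i with
  | zero => exact freeExt_zero _ _
  | succ i =>
    refine ⟨Empty, inferInstance, isEmptyElim, by simp, fun M h => ?_⟩
    have : Module.Projective A (A ⧸ (⊥ : Ideal A)) :=
      Module.Projective.of_equiv (Submodule.quotEquivOfEqBot (⊥ : Submodule A A) rfl).symm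
    have : Projective (Q (⊥ : Ideal A)) := (Q (⊥ : Ideal A)).projective_of_categoryTheory_projective
    exact ⟨fun a b _ => Subsingleton.elim a b, fun y => ⟨0, by rw [map_zero, Ext.eq_zero_of_projective y]⟩⟩

theorem freeExt_succ (J : Ideal A) (x : A) (hx : IsSMulRegular (A ⧸ J) x) (n : ℕ) (hJ : FreeExt J n) :
    FreeExt (J ⊔ Ideal.span {x}) (n + 1) := by
  classical
  intro i
  cases i with
  | zero => exact freeExt_zero _ _
  | succ i =>
    obtain ⟨ι₁, _, e₁, hc₁, hb₁⟩ := hJ i
    obtain ⟨ι₂, _, e₂, hc₂, hb₂⟩ := hJ (i + 1)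
    have hS := S_shortExact J x hx
    let J' := J ⊔ Ideal.span {x}
    let π : Q J ⟶ Q J' := proj le_sup_left
    have hxk : ∀ q : Q J', x • q = 0 := by
      intro q
      obtain ⟨a, rfl⟩ := Submodule.Quotient.mk_surjective J' q
      exact (Submodule.Quotient.mk_eq_zero _).2
        (Ideal.mul_mem_right _ _ (Ideal.mem_sup_right (Ideal.mem_span_singleton_self x)))
    have hlift : ∀ k, ∃ z : Ext (Q J') (Q J') (i + 1),
        (Ext.mk₀ π).comp z (zero_add _) = (e₂ k).comp (Ext.mk₀ π) (add_zero _) := by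
      intro k
      refine Ext.contravariant_sequence_exact₂ hS (Q J') _ ?_
      exact (f_comp J x _).trans (smul_eq_zero_of_killed x hxk _)
    choose z hz using hlift
    let e : ι₁ ⊕ ι₂ → Ext (Q J') (Q J') (i + 1) :=
      Sum.elim (fun k => (del J x hx (Q J') i) (Ext.comp (e₁ k) (Ext.mk₀ π) (add_zero i))) z
    refine ⟨ι₁ ⊕ ι₂, inferInstance, e, ?_, fun M h => ?_⟩
    · rw [Fintype.card_sum, hc₁, hc₂, Nat.choose_succ_succ]
    have hM : ∀ j ∈ J, ∀ m : M, j • m = 0 := fun j hj => h j (Ideal.mem_sup_left hj)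
    have hxM : ∀ m : M, x • m = 0 := h x (Ideal.mem_sup_right (Ideal.mem_span_singleton_self x))
    let d := del J x hx M i
    let p : Ext (Q J') M (i + 1) →ₗ[A] Ext (Q J) M (i + 1) :=
      Ext.precompOfLinear (Ext.mk₀ π) A M (zero_add _)
    let L : (ι₂ → M) →ₗ[A] Ext (Q J') M (i + 1) := theta J' z M h
    have hev : ∀ m, π ≫ ev J' M h m = ev J M hM m := fun m => proj_comp_ev _ M h m
    have hsplit : ∀ v : ι₁ ⊕ ι₂ → M,
        theta J' e M h v = d (theta J e₁ M hM (v ∘ Sum.inl)) + L (v ∘ Sum.inr) := by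
      intro v
      rw [theta_apply, Fintype.sum_sum_type, theta_apply, map_sum]
      congr 1
      · refine Finset.sum_congr rfl fun k _ => ?_
        refine (del_comp J x hx _ _).trans (congrArg d ?_)
        rw [Ext.comp_assoc_of_third_deg_zero, Ext.mk₀_comp_mk₀, hev]
        rfl
      · exact (theta_apply J' z M h (v ∘ Sum.inr)).symm
    have hpL : ∀ v, p (L v) = theta J e₂ M hM v := by
      intro v
      show p (theta J' z M h v) = _
      rw [theta_apply, theta_apply, map_sum]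
      refine Finset.sum_congr rfl fun k _ => ?_
      refine (Ext.comp_assoc_of_third_deg_zero (Ext.mk₀ π) (z k) _ (zero_add (i + 1))).symm.trans ?_
      rw [hz, Ext.comp_assoc_of_third_deg_zero, Ext.mk₀_comp_mk₀, hev]
    have hpd : ∀ y, p (d y) = 0 := fun y => ShortComplex.ShortExact.comp_extClass_assoc hS y (show 1 + i = i + 1 by omega)
    have hd : Function.Injective d := by
      rw [injective_iff_map_eq_zero]
      intro y hy
      obtain ⟨w, hw⟩ := Ext.contravariant_sequence_exact₁ hS M y (by omega) hy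
      rw [← hw, f_comp]
      exact smul_eq_zero_of_killed x hxM w
    refine ⟨?_, ?_⟩
    · rw [injective_iff_map_eq_zero]
      intro v hv
      rw [hsplit] at hv
      have h2 : v ∘ Sum.inr = 0 := by
        apply (hb₂ M hM).1
        rw [map_zero, ← hpL, ← map_zero p, ← hv, map_add, hpd, zero_add]
      rw [h2, map_zero, add_zero] at hv
      have h1 : v ∘ Sum.inl = 0 := (hb₁ M hM).1 (by rw [map_zero]; exact hd (by rw [hv, map_zero]))
      funext k
      rcases k with k | k
      · exact congrFun h1 k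
      · exact congrFun h2 k
    · intro y
      obtain ⟨vb, hvb⟩ := (hb₂ M hM).2 (p y)
      have hk : p (y - L vb) = 0 := by rw [map_sub, hpL, hvb, sub_self]
      obtain ⟨w, hw⟩ := Ext.contravariant_sequence_exact₃ hS M (y - L vb) hk (n₀ := i) (by omega)
      obtain ⟨va, hva⟩ := (hb₁ M hM).2 w
      refine ⟨Sum.elim va vb, ?_⟩
      rw [hsplit, Sum.elim_comp_inl, Sum.elim_comp_inr, hva]
      have hw' : d w = y - L vb := hw
      rw [hw', sub_add_cancel]

theorem freeExt_of_isWeaklyRegular (xs : List A) (h : RingTheory.Sequence.IsWeaklyRegular A xs) :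
    FreeExt (Ideal.ofList xs) xs.length := by
  induction xs using List.reverseRecOn with
  | nil => rw [Ideal.ofList_nil]; exact freeExt_bot
  | append_singleton xs x ih =>
    obtain ⟨h₁, h₂⟩ := (RingTheory.Sequence.isWeaklyRegular_append_iff _ _ _).1 h
    have hx : IsSMulRegular (A ⧸ Ideal.ofList xs) x := by
      have h3 := ((RingTheory.Sequence.isWeaklyRegular_singleton_iff _ _).1 h₂)
      exact ((Submodule.quotEquivOfEq _ _ (by simp)).isSMulRegular_congr x).1 h3
    rw [Ideal.ofList_append, Ideal.ofList_singleton, List.length_append, List.length_singleton]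
    exact freeExt_succ _ x hx _ (ih h₁)

/-! ### The top degree -/

/-- Top degree and vanishing above it. -/
def TopExt (J : Ideal A) (n : ℕ) : Prop :=
  ∀ M : ModuleCat.{u} A, (∀ i, n < i → ∀ y : Ext (Q J) M i, y = 0) ∧
    ∃ Ψ : M →ₗ[A] Ext (Q J) M n, Function.Surjective Ψ ∧ LinearMap.ker Ψ = J • ⊤

theorem topExt_bot : TopExt (⊥ : Ideal A) 0 := by
  intro M
  refine ⟨fun i hi y => ?_, ?_⟩
  · obtain ⟨i, rfl⟩ := Nat.exists_eq_succ_of_ne_zero (Nat.pos_iff_ne_zero.1 hi)
    have : Module.Projective A (A ⧸ (⊥ : Ideal A)) :=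
      Module.Projective.of_equiv (Submodule.quotEquivOfEqBot (⊥ : Submodule A A) rfl).symm
    have : Projective (Q (⊥ : Ideal A)) := (Q (⊥ : Ideal A)).projective_of_categoryTheory_projective
    exact Ext.eq_zero_of_projective y
  · have h : ∀ j ∈ (⊥ : Ideal A), ∀ m : M, j • m = 0 := by intro j hj m; simp [Ideal.mem_bot.1 hj]
    refine ⟨(Ext.linearEquiv₀ (R := A)).symm.toLinearMap ∘ₗ ev ⊥ M h,
      (Ext.linearEquiv₀ (R := A)).symm.surjective.comp (ev_bijective _ M h).2, ?_⟩
    rw [LinearMap.ker_comp, LinearEquiv.ker, Submodule.comap_bot, LinearMap.ker_eq_bot.2 (ev_bijective _ M h).1]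
    simp

theorem topExt_succ (J : Ideal A) (x : A) (hx : IsSMulRegular (A ⧸ J) x) (n : ℕ) (hJ : TopExt J n) :
    TopExt (J ⊔ Ideal.span {x}) (n + 1) := by
  intro M
  obtain ⟨hv, Ψ, hΨs, hΨk⟩ := hJ M
  have hS := S_shortExact J x hx
  refine ⟨fun i hi y => ?_, del J x hx M n ∘ₗ Ψ, ?_, ?_⟩
  · obtain ⟨j, rfl⟩ := Nat.exists_eq_succ_of_ne_zero (show i ≠ 0 by omega)
    obtain ⟨w, hw⟩ := Ext.contravariant_sequence_exact₃ hS M y (hv _ (by omega) _) (n₀ := j) (by omega)
    have hw0 : w = 0 := hv j (by omega) w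
    rw [← hw, hw0]
    exact ((S_shortExact J x hx).extClass.precomp M (show 1 + j = j + 1 by omega)).map_zero
  · intro y
    obtain ⟨w, hw⟩ := Ext.contravariant_sequence_exact₃ hS M y (hv _ (by omega) _) (n₀ := n) (by omega)
    obtain ⟨m, rfl⟩ := hΨs w
    exact ⟨m, hw⟩
  · ext m
    have hspan : ∀ c : M, x • c ∈ (J ⊔ Ideal.span {x}) • (⊤ : Submodule A M) := fun c =>
      Submodule.smul_mem_smul (Ideal.mem_sup_right (Ideal.mem_span_singleton_self x)) Submodule.mem_top
    have hdx : ∀ c, del J x hx M n (x • Ψ c) = 0 := by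
      intro c
      rw [← f_comp J x (Ψ c)]
      exact ShortComplex.ShortExact.extClass_comp_assoc hS (Ψ c) (h := by omega)
    constructor
    · intro hm
      obtain ⟨w, hw⟩ := Ext.contravariant_sequence_exact₁ hS M (Ψ m) (by omega) hm
      obtain ⟨c, rfl⟩ := hΨs w
      have h2 : Ψ (m - x • c) = 0 := by rw [map_sub, map_smul, ← f_comp J x (Ψ c)]; exact sub_eq_zero.2 hw.symm
      have h3 : m - x • c ∈ J • (⊤ : Submodule A M) := hΨk ▸ h2
      have := Submodule.add_mem _ (Submodule.smul_mono_left (le_sup_left (b := Ideal.span {x})) h3) (hspan c)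
      rwa [sub_add_cancel] at this
    · intro hm
      rw [Submodule.sup_smul] at hm
      obtain ⟨a, ha, b, hb, rfl⟩ := Submodule.mem_sup.1 hm
      rw [Submodule.ideal_span_singleton_smul] at hb
      obtain ⟨c, -, rfl⟩ := Submodule.mem_smul_pointwise_iff_exists _ _ _ |>.1 hb
      have ha' : Ψ a = 0 := by rw [← LinearMap.mem_ker, hΨk]; exact ha
      rw [LinearMap.mem_ker, LinearMap.comp_apply, map_add, ha', zero_add, map_smul, hdx]

theorem topExt_of_isWeaklyRegular (xs : List A) (h : RingTheory.Sequence.IsWeaklyRegular A xs) :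
    TopExt (Ideal.ofList xs) xs.length := by
  induction xs using List.reverseRecOn with
  | nil => rw [Ideal.ofList_nil]; exact topExt_bot
  | append_singleton xs x ih =>
    obtain ⟨h₁, h₂⟩ := (RingTheory.Sequence.isWeaklyRegular_append_iff _ _ _).1 h
    have hx : IsSMulRegular (A ⧸ Ideal.ofList xs) x := by
      have h3 := ((RingTheory.Sequence.isWeaklyRegular_singleton_iff _ _).1 h₂)
      exact ((Submodule.quotEquivOfEq _ _ (by simp)).isSMulRegular_congr x).1 h3
    rw [Ideal.ofList_append, Ideal.ofList_singleton, List.length_append, List.length_singleton]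
    exact topExt_succ _ x hx _ (ih h₁)

end DualExtLib
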