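import Groth.Agent.DualExtLib.Reg
import Groth.Agent.TorSESLib.Basic

/-! The top `Tor` of a quotient by a weakly regular sequence. -/

universe u

open CategoryTheory CategoryTheory.Limits MonoidalCategory

namespace DualExtLib

variable {A : Type u} [CommRing A]

/-- `Tor n X M`, computed with a resolution of `M`. -/
noncomputable abbrev T (n : ℕ) (X M : ModuleCat.{u} A) : ModuleCat.{u} A :=
  ((CategoryTheory.Tor (ModuleCat.{u} A) n).obj X).obj M

/-- Top degree and vanishing above it. -/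
def TopTor (J : Ideal A) (n : ℕ) : Prop :=
  ∀ M : ModuleCat.{u} A, (∀ i, n < i → IsZero (T i (Q J) M)) ∧
    ∃ Φ : T n (Q J) M →ₗ[A] M, Function.Injective Φ ∧
      LinearMap.range Φ = Submodule.torsionBySet A M J

theorem topTor_bot : TopTor (⊥ : Ideal A) 0 := by
  intro M
  have hproj : Module.Projective A (A ⧸ (⊥ : Ideal A)) :=
    Module.Projective.of_equiv (Submodule.quotEquivOfEqBot (⊥ : Submodule A A) rfl).symm
  refine ⟨fun i hi => TorSESLib.isZero_tor_of_flat M (Q (⊥ : Ideal A)) hi, ?_⟩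
  let F : ModuleCat.{u} A ⥤ ModuleCat.{u} A := (tensoringLeft (ModuleCat.{u} A)).obj (Q (⊥ : Ideal A))
  have : PreservesFiniteColimits F := inferInstanceAs (PreservesFiniteColimits (tensorLeft (Q (⊥ : Ideal A))))
  let e₁ : T 0 (Q (⊥ : Ideal A)) M ≅ F.obj M := F.leftDerivedZeroIsoSelf.app M
  let e : T 0 (Q (⊥ : Ideal A)) M ≃ₗ[A] M := e₁.toLinearEquiv ≪≫ₗ
    TensorProduct.congr (Submodule.quotEquivOfEqBot (⊥ : Submodule A A) rfl) (LinearEquiv.refl A M) ≪≫ₗ
      TensorProduct.lid A M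
  refine ⟨e.toLinearMap, e.injective, ?_⟩
  rw [LinearEquiv.range]
  symm
  rw [eq_top_iff]
  intro m _
  rw [Submodule.mem_torsionBySet_iff]
  rintro ⟨a, ha⟩
  simp [Ideal.mem_bot.1 ha]

theorem homologyMap_smul' {K L : ChainComplex (ModuleCat.{u} A) ℕ} (x : A) (φ ψ : K ⟶ L)
    (h : ∀ j, φ.f j = x • ψ.f j) (i : ℕ) :
    HomologicalComplex.homologyMap φ i = x • HomologicalComplex.homologyMap ψ i := by
  have h1 : (HomologicalComplex.shortComplexFunctor (ModuleCat.{u} A) (ComplexShape.down ℕ) i).map φ =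
      x • (HomologicalComplex.shortComplexFunctor (ModuleCat.{u} A) (ComplexShape.down ℕ) i).map ψ := by
    ext : 1 <;> exact h _
  show ShortComplex.homologyMap _ = x • ShortComplex.homologyMap _
  rw [h1, ShortComplex.homologyMap_smul]
  rfl

theorem topTor_succ (J : Ideal A) (x : A) (hx : IsSMulRegular (A ⧸ J) x) (n : ℕ) (hJ : TopTor J n) :
    TopTor (J ⊔ Ideal.span {x}) (n + 1) := by
  intro M
  obtain ⟨hv, Φ, hΦ, hΦr⟩ := hJ M
  have hS := TorSESLib.cx_shortExact (S J x) M (S_shortExact J x hx)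
  refine ⟨fun i hi => ?_, ?_⟩
  · obtain ⟨j, rfl⟩ := Nat.exists_eq_succ_of_ne_zero (show i ≠ 0 by omega)
    refine IsZero.of_iso ?_ (TorSESLib.torIso M (Q (J ⊔ Ideal.span {x})) (j + 1))
    exact (hS.homology_exact₃ (j + 1) j (by simp)).isZero_X₂
      (((hv (j + 1) (by omega)).of_iso (TorSESLib.torIso M (Q J) (j + 1)).symm).eq_of_src _ _)
      (((hv j (by omega)).of_iso (TorSESLib.torIso M (Q J) j).symm).eq_of_tgt _ _)
  have hf : HomologicalComplex.homologyMap (TorSESLib.cx (S J x) M).f n =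
      x • 𝟙 ((TorSESLib.cx (S J x) M).X₁.homology n) := by
    rw [← HomologicalComplex.homologyMap_id]
    refine homologyMap_smul' x _ _ (fun j => ?_) n
    show (S J x).f ▷ _ = x • 𝟙 _
    rw [S_f]
    apply ModuleCat.hom_ext
    refine TensorProduct.ext' fun q p => ?_
    show (x • q) ⊗ₜ[A] p = x • (q ⊗ₜ[A] p)
    exact (TensorProduct.smul_tmul' x q p).symm
  have hex := hS.homology_exact₁ (n + 1) n (by simp)
  have hmono : Mono (hS.δ (n + 1) n (by simp)) :=
    (hS.homology_exact₃ (n + 1) n (by simp)).mono_g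
      (((hv (n + 1) (by omega)).of_iso (TorSESLib.torIso M (Q J) (n + 1)).symm).eq_of_src _ _)
  have hex' := (ShortComplex.ShortExact.moduleCat_exact_iff_function_exact _).1 hex
  let e₃ := (TorSESLib.torIso M (Q (J ⊔ Ideal.span {x})) (n + 1)).toLinearEquiv
  let e₁ := (TorSESLib.torIso M (Q J) n).toLinearEquiv
  let δ : T (n + 1) (Q (J ⊔ Ideal.span {x})) M →ₗ[A] T n (Q J) M :=
    e₁.symm.toLinearMap ∘ₗ (hS.δ (n + 1) n (by simp)).hom ∘ₗ e₃.toLinearMap
  refine ⟨Φ ∘ₗ δ, hΦ.comp (e₁.symm.injective.comp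
    (((ModuleCat.mono_iff_injective _).1 hmono).comp e₃.injective)), ?_⟩
  ext m
  constructor
  · rintro ⟨t, rfl⟩
    have hJm : Φ (δ t) ∈ Submodule.torsionBySet A M J := hΦr ▸ LinearMap.mem_range_self _ _
    rw [Submodule.mem_torsionBySet_iff] at hJm ⊢
    rintro ⟨a, ha⟩
    obtain ⟨j, hj, y, hy, rfl⟩ := Submodule.mem_sup.1 ha
    obtain ⟨c, rfl⟩ := Ideal.mem_span_singleton'.1 hy
    have hx0 : x • ((hS.δ (n + 1) n (by simp)).hom (e₃ t)) = 0 := by
      have h' := hex'.apply_apply_eq_zero (e₃ t)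
      exact (congrArg (fun f => f.hom ((hS.δ (n + 1) n (by simp)).hom (e₃ t))) hf).symm.trans h'
    show (j + c * x) • Φ (δ t) = 0
    have h3 : δ t = e₁.symm ((hS.δ (n + 1) n (by simp)).hom (e₃ t)) := rfl
    have h4 : x • Φ (δ t) = 0 := by
      rw [← map_smul Φ, h3, ← map_smul e₁.symm]
      exact (congrArg (fun z => Φ (e₁.symm z)) hx0).trans ((congrArg Φ (map_zero e₁.symm)).trans (map_zero Φ))
    rw [add_smul, mul_smul, hJm ⟨j, hj⟩, zero_add, h4, smul_zero]
  · intro hm
    rw [Submodule.mem_torsionBySet_iff] at hm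
    have h1 : m ∈ LinearMap.range Φ := by
      rw [hΦr, Submodule.mem_torsionBySet_iff]
      exact fun a => hm ⟨a, Ideal.mem_sup_left a.2⟩
    obtain ⟨t, rfl⟩ := h1
    have hxt : x • t = 0 := hΦ (by
      rw [map_smul, map_zero]
      exact hm ⟨x, Ideal.mem_sup_right (Ideal.mem_span_singleton_self x)⟩)
    have h2 : (HomologicalComplex.homologyMap (TorSESLib.cx (S J x) M).f n).hom (e₁ t) = 0 := by
      rw [hf]
      show x • e₁ t = 0
      rw [← map_smul, hxt, map_zero]
    obtain ⟨s, hs⟩ := (hex' (e₁ t)).1 h2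
    refine ⟨e₃.symm s, ?_⟩
    show Φ (e₁.symm ((hS.δ (n + 1) n (by simp)).hom (e₃ (e₃.symm s)))) = Φ t
    rw [LinearEquiv.apply_symm_apply]
    exact congrArg Φ ((congrArg e₁.symm hs).trans (e₁.symm_apply_apply t))

theorem topTor_of_isWeaklyRegular (xs : List A) (h : RingTheory.Sequence.IsWeaklyRegular A xs) :
    TopTor (Ideal.ofList xs) xs.length := by
  induction xs using List.reverseRecOn with
  | nil => rw [Ideal.ofList_nil]; exact topTor_bot
  | append_singleton xs x ih =>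
    obtain ⟨h₁, h₂⟩ := (RingTheory.Sequence.isWeaklyRegular_append_iff _ _ _).1 h
    have hx : IsSMulRegular (A ⧸ Ideal.ofList xs) x := by
      have h3 := ((RingTheory.Sequence.isWeaklyRegular_singleton_iff _ _).1 h₂)
      exact ((Submodule.quotEquivOfEq _ _ (by simp)).isSMulRegular_congr x).1 h3
    rw [Ideal.ofList_append, Ideal.ofList_singleton, List.length_append, List.length_singleton]
    exact topTor_succ _ x hx _ (ih h₁)

/-- `Hom(A/J, M) → M`, evaluation at `1`. -/
noncomputable def homEquivTorsion (J : Ideal A) (M : Type u) [AddCommGroup M] [Module A M] :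
    ((A ⧸ J) →ₗ[A] M) ≃ₗ[A] Submodule.torsionBySet A M J :=
  LinearEquiv.ofBijective
    (LinearMap.codRestrict _ (LinearMap.applyₗ (Submodule.Quotient.mk (1 : A))) (fun f => by
      rw [Submodule.mem_torsionBySet_iff]
      rintro ⟨a, ha⟩
      show a • f (Submodule.Quotient.mk 1) = 0
      rw [← map_smul, ← Submodule.Quotient.mk_smul, smul_eq_mul, mul_one,
        (Submodule.Quotient.mk_eq_zero J).2 ha, map_zero]))
    ⟨fun f g hfg => Submodule.linearMap_qext _ (LinearMap.ext_ring (congrArg Subtype.val hfg)),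
      fun m => ⟨Submodule.liftQ J (LinearMap.toSpanSingleton A M m.1) fun a ha =>
        (Submodule.mem_torsionBySet_iff _ _).1 m.2 ⟨a, ha⟩, Subtype.ext (one_smul A m.1)⟩⟩

end DualExtLib
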